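import Cfsg.Agent.Omega.FrameFF
import Cfsg.Agent.Omega.NatPair.PreMod

/-!
# II.0: natural modules at the level of the minimal parabolic

`N : NatOver F P V ⊥` (the output of the FF theorem for one natural factor, `C_V(O²(P)) = 1`):

* `preMod` : the coordinates `PreMod F V`;
* `ind_conj` : the elements acting as members of `SL₂(F)` are permuted by `P`;
* `natModP` : `V` is a natural module for the group `P` itself (`NatMod F (V.subgroupOf P)`);
* `exists_quad` : a quadratic offender `A ≤ P` on `V` acts as the full group of transvections with a given centre.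
-/

set_option autoImplicit false
set_option linter.unusedSectionVars false

namespace Cfsg.Agent.Omega.II0.OfOver

open Subgroup Cfsg.Agent.Omega.NatPair Cfsg.Agent.Lib.SL2Mat
open Cfsg.Agent.Omega.FrameFF (NatOver)

universe u

variable {G : Type u} [Group G] {F : Type} [Field F] {P V : Subgroup G} (N : NatOver F P V ⊥)

include N

theorem e_one : N.e 1 = 0 := (N.ker 1 (one_mem V)).2 (mem_bot.2 rfl)

theorem e_inv {v : G} (hv : v ∈ V) : N.e v⁻¹ = -N.e v := by
  have h1 := N.mul v hv v⁻¹ (inv_mem hv)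
  rw [mul_inv_cancel, e_one N] at h1
  exact (neg_eq_of_add_eq_zero_right h1.symm).symm

theorem e_injOn {v w : G} (hv : v ∈ V) (hw : w ∈ V) (h : N.e v = N.e w) : v = w := by
  have h1 : N.e (v * w⁻¹) = 0 := by
    rw [N.mul v hv _ (inv_mem hw), e_inv N hw, h, add_neg_cancel]
  exact mul_inv_eq_one.1 (mem_bot.1 ((N.ker _ (mul_mem hv (inv_mem hw))).1 h1))

/-- the vector with given coordinates -/
noncomputable def f (x : Fin 2 → F) : G := (N.surj x).choose

theorem f_mem (x : Fin 2 → F) : f N x ∈ V := (N.surj x).choose_spec.1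

theorem e_f (x : Fin 2 → F) : N.e (f N x) = x := (N.surj x).choose_spec.2

theorem f_e {v : G} (hv : v ∈ V) : f N (N.e v) = v := e_injOn N (f_mem N _) hv (e_f N _)

theorem f_add (x y : Fin 2 → F) : f N (x + y) = f N x * f N y :=
  e_injOn N (f_mem N _) (mul_mem (f_mem N _) (f_mem N _))
    (by rw [e_f, N.mul _ (f_mem N _) _ (f_mem N _), e_f, e_f])

theorem f_inj : Function.Injective (f N) := fun x y h => by rw [← e_f N x, h, e_f]

theorem mem_iff (g : G) : g ∈ V ↔ ∃ x, f N x = g :=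
  ⟨fun hg => ⟨N.e g, f_e N hg⟩, by rintro ⟨x, rfl⟩; exact f_mem N x⟩

/-- the action on the coordinates, two ways -/
theorem act_iff {h : G} (hh : ∀ v ∈ V, h * v * h⁻¹ ∈ V) (A : Matrix.SpecialLinearGroup (Fin 2) F) :
    (∀ x, h * f N x * h⁻¹ = f N (ap A x)) ↔ ∀ v ∈ V, N.e (h * v * h⁻¹) = ap A (N.e v) := by
  constructor
  · intro h1 v hv
    have h2 := h1 (N.e v)
    rw [f_e N hv] at h2
    rw [h2, e_f]
  · intro h1 x
    apply e_injOn N (hh _ (f_mem N x)) (f_mem N _)
    rw [h1 _ (f_mem N x), e_f, e_f]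

theorem conj_mem (hP : P ≤ normalizer (V : Set G)) {g : G} (hg : g ∈ P) : ∀ v ∈ V, g * v * g⁻¹ ∈ V :=
  fun v hv => (mem_normalizer_iff.1 (hP hg) v).1 hv

/-- the coordinates of `V` -/
noncomputable def preMod (hP : P ≤ normalizer (V : Set G)) : PreMod F V where
  e := f N
  e_add := f_add N
  e_inj := f_inj N
  mem_iff := mem_iff N
  lift A := by
    obtain ⟨g, hg, h1, -⟩ := N.lift A
    exact ⟨g, (act_iff N (conj_mem N hP hg) A).2 h1⟩

/-- an element acting as a matrix normalises `V` -/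
theorem mem_of_ind (hP : P ≤ normalizer (V : Set G)) {h : G} {A : Matrix.SpecialLinearGroup (Fin 2) F}
    (hA : (preMod N hP).Ind h A) : ∀ v ∈ V, h * v * h⁻¹ ∈ V := by
  intro v hv
  have h1 : h * f N (N.e v) * h⁻¹ = f N (ap A (N.e v)) := hA (N.e v)
  rw [f_e N hv] at h1
  rw [h1]
  exact f_mem N _

/-- the elements acting as members of `SL₂(F)` are permuted by `P` -/
theorem ind_conj (hP : P ≤ normalizer (V : Set G)) {s : G} (hs : s ∈ P) {h : G}
    {A : Matrix.SpecialLinearGroup (Fin 2) F} (hA : (preMod N hP).Ind h A) :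
    ∃ B, (preMod N hP).Ind (s * h * s⁻¹) B := by
  obtain ⟨k, hk, h1, -⟩ := N.lift A
  obtain ⟨B, hB⟩ := N.norm s hs k hk A h1
  refine ⟨B, fun x => ?_⟩
  -- `s h s⁻¹` and `s k s⁻¹` act in the same way
  have h2 := (act_iff N (conj_mem N hP (mul_mem (mul_mem hs hk) (inv_mem hs))) B).2 hB x
  have h3 : ∀ v ∈ V, h * v * h⁻¹ = k * v * k⁻¹ := by
    intro v hv
    have e1 : h * f N (N.e v) * h⁻¹ = f N (ap A (N.e v)) := hA (N.e v)
    have e2 := (act_iff N (conj_mem N hP hk) A).2 h1 (N.e v)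
    rw [f_e N hv] at e1 e2
    rw [e1, e2]
  have h4 : s⁻¹ * f N x * s ∈ V := by
    have := conj_mem N hP (inv_mem hs) _ (f_mem N x)
    rwa [inv_inv] at this
  have h5 := h3 _ h4
  change s * h * s⁻¹ * f N x * (s * h * s⁻¹)⁻¹ = f N (ap B x)
  rw [← h2]
  calc s * h * s⁻¹ * f N x * (s * h * s⁻¹)⁻¹ = s * (h * (s⁻¹ * f N x * s) * h⁻¹) * s⁻¹ := by group
    _ = s * (k * (s⁻¹ * f N x * s) * k⁻¹) * s⁻¹ := by rw [h5]
    _ = s * k * s⁻¹ * f N x * (s * k * s⁻¹)⁻¹ := by group

/-- `V` is a natural module for the group `P` -/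
noncomputable def natModP (hP : P ≤ normalizer (V : Set G)) (hV : V ≤ P) : NatMod F (V.subgroupOf P) where
  e x := ⟨f N x, hV (f_mem N x)⟩
  e_add x y := Subtype.ext (f_add N x y)
  e_inj x y h := f_inj N (congrArg Subtype.val h)
  mem_iff g := by
    rw [mem_subgroupOf, mem_iff N]
    constructor
    · rintro ⟨x, hx⟩
      exact ⟨x, Subtype.ext hx⟩
    · rintro ⟨x, hx⟩
      exact ⟨x, congrArg Subtype.val hx⟩
  lift A := by
    obtain ⟨g, hg, h1, -⟩ := N.lift A
    exact ⟨⟨g, hg⟩, fun x => Subtype.ext ((act_iff N (conj_mem N hP hg) A).2 h1 x)⟩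
  norm := by
    intro g _ h A hA
    have h1 : ∀ x, (h : G) * f N x * (h : G)⁻¹ = f N (ap A x) := fun x => congrArg Subtype.val (hA x)
    obtain ⟨B, hB⟩ := ind_conj N hP g.2 (h := (h : G)) (A := A) h1
    exact ⟨B, fun x => Subtype.ext (hB x)⟩

theorem relIndex_subgroupOf_centralizer {A B P : Subgroup G} (hA : A ≤ P) (hB : B ≤ P) :
    (centralizer ((A.subgroupOf P : Subgroup P) : Set P)).relIndex (B.subgroupOf P) =
      (centralizer (A : Set G)).relIndex B := by
  have h1 : centralizer ((A.subgroupOf P : Subgroup P) : Set P) = (centralizer (A : Set G)).subgroupOf P := by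
    ext x
    rw [mem_subgroupOf, mem_centralizer_iff, mem_centralizer_iff]
    constructor
    · intro h a ha
      exact congrArg Subtype.val (h ⟨a, hA ha⟩ (mem_subgroupOf.2 ha))
    · intro h a ha
      exact Subtype.ext (h a (mem_subgroupOf.1 ha))
  rw [h1, relIndex_subgroupOf hB]

/-- **quadratic offenders in `P`** -/
theorem exists_quad [Finite G] [Finite F] [CharP F 2] (hP : P ≤ normalizer (V : Set G)) (hV : V ≤ P)
    {A : Subgroup G} (hA : A ≤ P) (hne : ∃ a ∈ A, ∃ v ∈ V, a * v ≠ v * a)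
    (hq : ∀ a ∈ A, ∀ b ∈ A, ∀ v ∈ V, b * (a * v * a⁻¹ * v⁻¹) = (a * v * a⁻¹ * v⁻¹) * b)
    (hoff : (centralizer (A : Set G)).relIndex V ≤ (centralizer (V : Set G)).relIndex A) :
    ∃ w, w ≠ 0 ∧ centralizer (A : Set G) ⊓ V = (preMod N hP).line w ∧
      (∀ r ∈ (preMod N hP).line w, ∃ a ∈ A, ∃ v ∈ V, a * v * a⁻¹ * v⁻¹ = r) ∧
      (centralizer (V : Set G)).relIndex A = Nat.card F ∧ (centralizer (A : Set G)).relIndex V = Nat.card F := by
  have hVn : A.subgroupOf P ≤ normalizer ((V.subgroupOf P : Subgroup P) : Set P) := by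
    intro a _
    rw [mem_normalizer_iff]
    intro v
    rw [mem_subgroupOf, mem_subgroupOf]
    exact mem_normalizer_iff.1 (hP a.2) v
  obtain ⟨w, hw⟩ := (natModP N hP hV).quad_ff (A := A.subgroupOf P) hVn
    (by
      obtain ⟨a, ha, v, hv, h1⟩ := hne
      exact ⟨⟨a, hA ha⟩, mem_subgroupOf.2 ha, ⟨v, hV hv⟩, mem_subgroupOf.2 hv,
        fun h2 => h1 (congrArg Subtype.val h2)⟩)
    (by
      intro a ha b hb v hv
      exact Subtype.ext (hq a (mem_subgroupOf.1 ha) b (mem_subgroupOf.1 hb) v (mem_subgroupOf.1 hv)))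
    (by
      rw [relIndex_subgroupOf_centralizer N hA hV, relIndex_subgroupOf_centralizer N hV hA]
      exact hoff)
  have hline : ∀ g : P, g ∈ (natModP N hP hV).line w ↔ (g : G) ∈ (preMod N hP).line w := by
    intro g
    constructor
    · rintro ⟨c, hc⟩
      exact ⟨c, congrArg Subtype.val hc⟩
    · rintro ⟨c, hc⟩
      exact ⟨c, Subtype.ext hc⟩
  have hlV : ∀ r ∈ (preMod N hP).line w, r ∈ V := by
    rintro _ ⟨c, rfl⟩
    exact f_mem N _
  refine ⟨w, hw.ne, ?_, ?_, ?_, ?_⟩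
  · ext g
    rw [mem_inf]
    constructor
    · rintro ⟨h1, h2⟩
      have h3 : (⟨g, hV h2⟩ : P) ∈ centralizer ((A.subgroupOf P : Subgroup P) : Set P) ⊓ V.subgroupOf P := by
        refine mem_inf.2 ⟨mem_centralizer_iff.2 fun a ha => Subtype.ext ?_, mem_subgroupOf.2 h2⟩
        exact mem_centralizer_iff.1 h1 a (mem_subgroupOf.1 ha)
      rw [hw.cent] at h3
      exact (hline _).1 h3
    · intro h1
      have h2 := hlV g h1
      have h3 : (⟨g, hV h2⟩ : P) ∈ (natModP N hP hV).line w := (hline _).2 h1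
      rw [← hw.cent, mem_inf] at h3
      refine ⟨mem_centralizer_iff.2 fun a ha => ?_, h2⟩
      exact congrArg Subtype.val (mem_centralizer_iff.1 h3.1 ⟨a, hA ha⟩ (mem_subgroupOf.2 ha))
  · intro r hr
    obtain ⟨a, ha, v, hv, h1⟩ := hw.comm' ⟨r, hV (hlV r hr)⟩ ((hline _).2 hr)
    exact ⟨a, mem_subgroupOf.1 ha, v, mem_subgroupOf.1 hv, congrArg Subtype.val h1⟩
  · rw [← relIndex_subgroupOf_centralizer N hV hA]
    exact hw.card
  · rw [← relIndex_subgroupOf_centralizer N hA hV]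
    exact hw.index

end Cfsg.Agent.Omega.II0.OfOver
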