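import Cfsg.Agent.Omega.FFMutual
import Cfsg.Agent.Omega.II0.OfOver

/-!
# II.0: the exceptional modules `2⁴` (`A₇`) in mutual pairs ((EX1) of bb OMEGA #12618)

* `exists_par` : `V = 2⁴` exceptional over `S`, `Ω₁(Z(S)) ≤ V`: the `S`-invariant line of `V` is `V_{P'}` for some
  `P' ∈ P*(S)`;
* `exists_four` : if both members of a mutual pair are exceptional, then there is a mutual pair `V_{P'}`, `(V_{P'})^y` of
  four-groups.
-/

set_option autoImplicit false
set_option linter.unusedSectionVars false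

namespace Cfsg.Agent.Omega.II0.ExOne

open Subgroup Pointwise Cfsg Cfsg.Agent.ZN Cfsg.Agent.Omega.MinPar Cfsg.Agent.Omega.Frame
open Cfsg.Agent.Omega.FrameFF (NatOver)
open Cfsg.Agent.Omega.NatPair (NatMod PreMod cj mem_cj cj_mul cj_one cj_eq_iff mem_normalizer_cj ap exists_ap ap_smul)
open Cfsg.Agent.MinSimple.VModule (mem_zc zc_le zc_le_zl zl_le le_normalizer_zl)
open Cfsg.Agent.MinSimple.Basic (zc_ne_bot)
open Cfsg.Agent.Lib.SL2Mat
open Cfsg.Agent.Omega.II0.OfOver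

universe u

/-! ### Groups of order four -/

section four

variable {G : Type u} [Group G]

/-- a group of order 4 is generated by two different nontrivial elements, one of them an involution -/
theorem closure_pair_eq [Finite G] {U : Subgroup G} (hU : Nat.card U = 4) {r v : G} (hr : r ∈ U) (hv : v ∈ U)
    (hr1 : r ≠ 1) (hr2 : r * r = 1) (hv1 : v ≠ 1) (hrv : v ≠ r) : closure {r, v} = U := by
  classical
  have hle : closure {r, v} ≤ U := by
    rw [closure_le]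
    rintro x (rfl | rfl)
    · exact hr
    · exact hv
  refine Subgroup.eq_of_le_of_card_ge hle ?_
  rw [hU]
  have h1 : Nat.card (closure {r, v} : Subgroup G) ∣ 4 := by
    rw [← hU]
    exact Subgroup.card_dvd_of_le hle
  -- three different elements
  have hrc : r ∈ closure {r, v} := subset_closure (Or.inl rfl)
  have hvc : v ∈ closure {r, v} := subset_closure (Or.inr rfl)
  have h3 : 2 < Nat.card (closure {r, v} : Subgroup G) := by
    have h4 : ((({1, r, v} : Finset G)) : Set G) ⊆ (closure {r, v} : Set G) := by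
      intro x hx
      simp only [Finset.coe_insert, Finset.coe_singleton, Set.mem_insert_iff, Set.mem_singleton_iff] at hx
      rcases hx with rfl | rfl | rfl
      · exact one_mem _
      · exact hrc
      · exact hvc
    have h5 : ({1, r, v} : Finset G).card = 3 := by
      rw [Finset.card_eq_three]
      exact ⟨1, r, v, hr1.symm, hv1.symm, hrv.symm, rfl⟩
    have h6 := Set.ncard_le_ncard h4 (Set.toFinite _)
    rw [Set.ncard_coe_finset, h5] at h6
    have h7 : (closure {r, v} : Set G).ncard = Nat.card (closure {r, v} : Subgroup G) := rfl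
    rw [h7] at h6
    exact h6
  obtain ⟨k, hk⟩ := h1
  rcases Nat.lt_or_ge k 2 with hk2 | hk2
  · interval_cases k
    · omega
    · omega
  · nlinarith

end four

/-! ### The parabolic of the `S`-invariant line -/

section par

variable {G : Type u} [Group G] [Finite G]

theorem card_zc_ne_one {S : Sylow 2 G} (hS : (S : Subgroup G) ≠ ⊥) : zc (S : Subgroup G) ≠ ⊥ :=
  zc_ne_bot S.isPGroup' hS

/-- lines are conjugate under the elements acting as `SL₂(F)` -/
theorem exists_cj_line {F : Type} [Field F] {V : Subgroup G} (M : PreMod F V) {w w' : Fin 2 → F} (hw : w ≠ 0)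
    (hw' : w' ≠ 0) : ∃ l, cj l (M.line w) = M.line w' := by
  obtain ⟨A, hA⟩ := exists_ap hw hw'
  obtain ⟨l, hl⟩ := M.lift A
  refine ⟨l, ?_⟩
  ext x
  rw [mem_cj, PreMod.mem_line, PreMod.mem_line]
  constructor
  · rintro ⟨c, hc⟩
    refine ⟨c, ?_⟩
    rw [← hA, ← ap_smul, ← hl, hc]; group
  · rintro ⟨c, hc⟩
    refine ⟨c, ?_⟩
    rw [← hA, ← ap_smul, ← hl] at hc
    rw [← hc]; group

/-- the `S`-invariant line of an exceptional module is `V_{P'}` -/
theorem exists_par (hG : Ctx G) (S : Sylow 2 G) {V : Subgroup G} {F : Type} [Field F] [Finite F] [CharP F 2]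
    (M : PreMod F V) (hE : M.Exc (S : Subgroup G)) (hZ : zc (S : Subgroup G) ≤ V) :
    ∃ (P' : Subgroup G) (w : Fin 2 → F), IsParS (S : Subgroup G) P' ∧ w ≠ 0 ∧
      zl (S : Subgroup G) P' = M.line w := by
  classical
  obtain ⟨w, hw, hSw, hcl, hc2⟩ := hE.point
  have hS1 := hG.sylow_ne_bot S
  have hZc : zc (S : Subgroup G) ≤ V ⊓ centralizer ((S : Subgroup G) : Set G) := by
    intro z hz
    exact mem_inf.2 ⟨hZ hz, mem_centralizer_iff.2 fun s hs => (mem_zc.1 hz).2.1 s hs⟩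
  have hZ1 := zc_ne_bot S.isPGroup' hS1
  have hZe : zc (S : Subgroup G) = V ⊓ centralizer ((S : Subgroup G) : Set G) := by
    refine Subgroup.eq_of_le_of_card_ge hZc ?_
    rw [hc2]
    by_contra hlt
    push Not at hlt
    have h1 : Nat.card (zc (S : Subgroup G)) = 1 := by
      have := Nat.card_pos (α := zc (S : Subgroup G))
      omega
    exact hZ1 (Subgroup.card_eq_one.1 h1)
  have hZ2 : Nat.card (zc (S : Subgroup G)) = 2 := by rw [hZe]; exact hc2
  have hZl : zc (S : Subgroup G) ≤ M.line w := by rw [hZe]; exact hcl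
  -- the generator of `Z`
  obtain ⟨z, hz, hz1⟩ : ∃ z ∈ zc (S : Subgroup G), z ≠ 1 := by
    by_contra hcon
    push Not at hcon
    exact hZ1 (eq_bot_iff.2 fun x hx => mem_bot.2 (hcon x hx))
  have hZel : ∀ x ∈ zc (S : Subgroup G), x = 1 ∨ x = z := by
    intro x hx
    by_contra hcon
    push Not at hcon
    have h4 : ((({1, z, x} : Finset G)) : Set G) ⊆ (zc (S : Subgroup G) : Set G) := by
      intro y hy
      simp only [Finset.coe_insert, Finset.coe_singleton, Set.mem_insert_iff, Set.mem_singleton_iff] at hy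
      rcases hy with rfl | rfl | rfl
      · exact one_mem _
      · exact hz
      · exact hx
    have h5 : ({1, z, x} : Finset G).card = 3 := by
      rw [Finset.card_eq_three]
      exact ⟨1, z, x, hz1.symm, fun h => hcon.1 h.symm, fun h => hcon.2 h.symm, rfl⟩
    have h6 := Set.ncard_le_ncard h4 (Set.toFinite _)
    rw [Set.ncard_coe_finset, h5] at h6
    have h7 : (zc (S : Subgroup G) : Set G).ncard = Nat.card (zc (S : Subgroup G)) := rfl
    rw [h7, hZ2] at h6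
    omega
  obtain ⟨d, hd⟩ := hZl hz
  have hd0 : d ≠ 0 := by
    rintro rfl
    rw [zero_smul, M.e_zero] at hd
    exact hz1 hd.symm
  -- a scalar different from `0` and `1`
  obtain ⟨c, hc0, hc1⟩ : ∃ c : F, c ≠ 0 ∧ c ≠ 1 := by
    by_contra hcon
    push Not at hcon
    have h1 : Function.Surjective (fun b : Bool => if b then (1 : F) else 0) := by
      intro x
      by_cases hx : x = 0
      · exact ⟨false, by simp [hx]⟩
      · exact ⟨true, by simp [hcon x hx]⟩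
    have h2 := Nat.card_le_card_of_surjective _ h1
    rw [hE.card] at h2
    simp at h2
  obtain ⟨A, hA⟩ := exists_ap (x := d • w) (y := c • (d • w)) (smul_ne_zero hd0 hw)
    (smul_ne_zero hc0 (smul_ne_zero hd0 hw))
  obtain ⟨g, hg⟩ := M.lift A
  have hAw : ap A w = c • w := by
    have h1 : ap A w = d⁻¹ • ap A (d • w) := by rw [ap_smul, smul_smul, inv_mul_cancel₀ hd0, one_smul]
    rw [h1, hA, smul_smul, smul_smul, show d⁻¹ * c * d = (d⁻¹ * d) * c by ring, inv_mul_cancel₀ hd0, one_mul]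
  have hgl : g ∈ normalizer ((M.line w : Subgroup G) : Set G) := by
    rw [← cj_eq_iff]
    ext x
    rw [mem_cj, PreMod.mem_line, PreMod.mem_line]
    constructor
    · rintro ⟨b, hb⟩
      refine ⟨b * c, ?_⟩
      rw [mul_smul, ← hAw, ← ap_smul, ← hg, hb]; group
    · rintro ⟨b, hb⟩
      refine ⟨b * c⁻¹, ?_⟩
      have h1 : M.e (b • w) = g * M.e ((b * c⁻¹) • w) * g⁻¹ := by
        rw [hg, ap_smul, hAw, smul_smul, mul_assoc, inv_mul_cancel₀ hc0, mul_one]
      rw [hb] at h1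
      rw [h1]; group
  have hgz : g * z * g⁻¹ ∉ zc (S : Subgroup G) := by
    intro h1
    rw [← hd, hg, hA] at h1
    rcases hZel _ h1 with h2 | h2
    · rw [M.e_eq_one] at h2
      exact smul_ne_zero hc0 (smul_ne_zero hd0 hw) h2
    · rw [← hd] at h2
      have h3 := M.e_inj h2
      have h4 : (c - 1) • (d • w) = 0 := by rw [sub_smul, one_smul, h3, sub_self]
      rcases smul_eq_zero.1 h4 with h5 | h5
      · exact hc1 (sub_eq_zero.1 h5)
      · exact smul_ne_zero hd0 hw h5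
  have hlp : IsPGroup 2 (M.line w) := by
    rintro ⟨x, hx⟩
    exact ⟨1, Subtype.ext (by
      show x ^ (2 ^ 1) = 1
      rw [pow_one, pow_two]
      exact M.sq (M.line_le w hx))⟩
  have hl1 : M.line w ≠ ⊥ := by
    intro h1
    have h2 := M.card_line hw
    rw [h1, Subgroup.card_bot, hE.card] at h2
    omega
  have hloc := isLoc_normalizer S hlp hl1 hSw
  obtain ⟨P', hP', hPl, hPn⟩ : ∃ P' : Subgroup G, IsPar (S : Subgroup G) P' ∧
      P' ≤ normalizer ((M.line w : Subgroup G) : Set G) ∧ ¬ P' ≤ normalizer (zc (S : Subgroup G) : Set G) := by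
    by_contra hcon
    push Not at hcon
    have h1 := hloc.le_of_forall S (Y := normalizer (zc (S : Subgroup G) : Set G))
      (inf_le_right.trans (MinSimple.VModule.normalizer_le_normalizer_zc _)) (fun P hP hPL => hcon P hP hPL)
    exact hgz ((mem_normalizer_iff.1 (h1 hgl) z).1 hz)
  have hPs : IsParS (S : Subgroup G) P' := ⟨hP', hPn⟩
  refine ⟨P', w, hPs, hw, ?_⟩
  have hle : zl (S : Subgroup G) P' ≤ M.line w := zl_le hZl hPl
  refine Subgroup.eq_of_le_of_card_ge hle ?_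
  rw [M.card_line hw, hE.card]
  have h1 : Nat.card (zl (S : Subgroup G) P') ∣ 4 := by
    rw [← hE.card, ← M.card_line hw]
    exact Subgroup.card_dvd_of_le hle
  have h2 : 2 < Nat.card (zl (S : Subgroup G) P') := by
    by_contra hlt
    push Not at hlt
    have h3 : zc (S : Subgroup G) = zl (S : Subgroup G) P' :=
      Subgroup.eq_of_le_of_card_ge (zc_le_zl _ _) (by rw [hZ2]; exact hlt)
    apply hPn
    rw [h3]
    exact le_normalizer_zl _ _
  obtain ⟨k, hk⟩ := h1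
  rcases Nat.lt_or_ge k 2 with hk2 | hk2
  · interval_cases k
    · omega
    · omega
  · nlinarith

end par

/-! ### Mutual pairs -/

section pair

variable {G : Type u} [Group G] [Finite G]

/-- one side of a mutual pair: `V'` acts on `V = V_P` as the full group of transvections of a line `n⁻¹`-conjugate to a
line of the coordinates -/
theorem side (S : Sylow 2 G) {P V V' : Subgroup G} {F : Type} [Field F] [Finite F] [CharP F 2]
    (hSP : (S : Subgroup G) ≤ P) (hP : P ≤ normalizer (V : Set G)) (hV : V ≤ P) (N : NatOver F P V ⊥)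
    (hV' : IsElementaryAbelian 2 V') (hm : NatPair.Mutual V V')
    (hle : (centralizer (V' : Set G)).relIndex V ≤ (centralizer (V : Set G)).relIndex V') :
    ∃ n ∈ normalizer (V : Set G), ∃ w, w ≠ 0 ∧ V ⊓ V' = cj n ((preMod N hP).line w) ∧
      centralizer (V' : Set G) ⊓ V = V ⊓ V' ∧
      (centralizer (V : Set G)).relIndex V' = Nat.card F ∧ (centralizer (V' : Set G)).relIndex V = Nat.card F := by
  obtain ⟨n, hn, hnS⟩ := FFThm.exists_conj_le S (hSP.trans hP) (FFThm.isPGroup_of_elem hV') hm.le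
  change cj n V' ≤ (S : Subgroup G) at hnS
  set A := cj n V' with hA
  have hnV : cj n V = V := cj_eq_iff.2 hn
  have hAP : A ≤ P := hnS.trans hSP
  have hcomm' : ∀ a ∈ V', ∀ b ∈ V', a * b = b * a := fun a ha b hb =>
    congrArg Subtype.val (hV'.1.is_comm.comm ⟨a, ha⟩ ⟨b, hb⟩)
  -- transport of the indices
  have hc1 : ∀ X : Subgroup G, centralizer ((cj n X : Subgroup G) : Set G) = cj n (centralizer (X : Set G)) :=
    fun X => (Cfsg.Agent.ZN.ChoiceBase.cj_centralizer n X).symm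
  have hri : ∀ X Y : Subgroup G, (cj n X).relIndex (cj n Y) = X.relIndex Y := by
    intro X Y
    exact Subgroup.relIndex_map_map_of_injective X Y (MulEquiv.injective (MulAut.conj n))
  have h1 : (centralizer (A : Set G)).relIndex V = (centralizer (V' : Set G)).relIndex V := by
    rw [hA, hc1]
    nth_rewrite 1 [← hnV]
    exact hri _ _
  have h2 : (centralizer (V : Set G)).relIndex A = (centralizer (V : Set G)).relIndex V' := by
    have e1 : centralizer (V : Set G) = cj n (centralizer (V : Set G)) := by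
      rw [← hc1, hnV]
    rw [hA, e1, hri, ← e1]
  -- commutators
  have hAV : ∀ a ∈ A, ∀ v ∈ V, a * v * a⁻¹ * v⁻¹ ∈ V ⊓ A := by
    intro a ha v hv
    rw [hA, mem_cj] at ha
    have hv' : n⁻¹ * v * n ∈ V := by
      rw [← mem_cj, hnV]; exact hv
    have h3 := hm.comm_mem ha hv'
    have h4 : n⁻¹ * (a * v * a⁻¹ * v⁻¹) * n ∈ V ⊓ V' := by
      have e1 : n⁻¹ * (a * v * a⁻¹ * v⁻¹) * n =
          (n⁻¹ * a * n) * (n⁻¹ * v * n) * (n⁻¹ * a * n)⁻¹ * (n⁻¹ * v * n)⁻¹ := by group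
      rw [e1]; exact h3
    rw [mem_inf] at h4 ⊢
    refine ⟨?_, ?_⟩
    · rw [← hnV, mem_cj]; exact h4.1
    · rw [hA, mem_cj]; exact h4.2
  have hAc : ∀ a ∈ A, ∀ b ∈ A, a * b = b * a := by
    intro a ha b hb
    rw [hA, mem_cj] at ha hb
    have h3 := hcomm' _ ha _ hb
    have e1 : a * b = n * ((n⁻¹ * a * n) * (n⁻¹ * b * n)) * n⁻¹ := by group
    have e2 : b * a = n * ((n⁻¹ * b * n) * (n⁻¹ * a * n)) * n⁻¹ := by group
    rw [e1, e2, h3]
  obtain ⟨w, hw, hcent, hcom, hq1, hq2⟩ := exists_quad N hP hV hAP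
    (by
      obtain ⟨v, hv, b, hb, hvb⟩ := hm.ne
      refine ⟨n * b * n⁻¹, ?_, n * v * n⁻¹, ?_, ?_⟩
      · rw [hA, mem_cj]
        have e1 : n⁻¹ * (n * b * n⁻¹) * n = b := by group
        rw [e1]; exact hb
      · exact (mem_normalizer_iff.1 hn v).1 hv
      · intro h3
        apply hvb
        have e1 : n * b * n⁻¹ * (n * v * n⁻¹) = n * (b * v) * n⁻¹ := by group
        have e2 : n * v * n⁻¹ * (n * b * n⁻¹) = n * (v * b) * n⁻¹ := by group
        rw [e1, e2] at h3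
        exact (mul_left_cancel (mul_right_cancel h3)).symm)
    (fun a ha b hb v hv => hAc b hb _ (mem_inf.1 (hAV a ha v hv)).2)
    (by rw [h1, h2]; exact hle)
  have hkey : V ⊓ A = (preMod N hP).line w := by
    apply le_antisymm
    · rw [← hcent]
      intro g hg
      rw [mem_inf] at hg ⊢
      exact ⟨mem_centralizer_iff.2 fun a ha => hAc a ha g hg.2, hg.1⟩
    · intro r hr
      obtain ⟨a, ha, v, hv, rfl⟩ := hcom r hr
      exact hAV a ha v hv
  have hVV' : V ⊓ V' = cj n⁻¹ (V ⊓ A) := by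
    have e1 : cj n⁻¹ (V ⊓ A) = cj n⁻¹ V ⊓ cj n⁻¹ A := Cfsg.Agent.ZN.ChoiceBase.cj_inf n⁻¹ V A
    have e2 : cj n⁻¹ V = V := cj_eq_iff.2 (inv_mem hn)
    have e3 : cj n⁻¹ A = V' := by rw [hA, ← cj_mul, inv_mul_cancel, cj_one]
    rw [e1, e2, e3]
  refine ⟨n⁻¹, inv_mem hn, w, hw, ?_, ?_, ?_, ?_⟩
  · rw [hVV', hkey]
  · apply le_antisymm
    · intro g hg
      rw [mem_inf] at hg
      have h3 : n * g * n⁻¹ ∈ centralizer (A : Set G) ⊓ V := by
        refine mem_inf.2 ⟨mem_centralizer_iff.2 fun a ha => ?_, (mem_normalizer_iff.1 hn g).1 hg.2⟩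
        have ha' : n⁻¹ * a * n ∈ V' := by
          have : a ∈ cj n V' := ha
          rwa [mem_cj] at this
        have h4 := mem_centralizer_iff.1 hg.1 _ ha'
        have e1 : a * (n * g * n⁻¹) = n * ((n⁻¹ * a * n) * g) * n⁻¹ := by group
        have e2 : n * g * n⁻¹ * a = n * (g * (n⁻¹ * a * n)) * n⁻¹ := by group
        rw [e1, e2, h4]
      rw [hcent, ← hkey] at h3
      rw [hVV', mem_cj]
      simpa using h3
    · intro g hg
      rw [mem_inf] at hg ⊢
      exact ⟨mem_centralizer_iff.2 fun a ha => hcomm' a ha g hg.2, hg.1⟩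
  · rw [← h2]; exact hq1
  · rw [← h1]; exact hq2

theorem relIndex_centralizer_cj (g : G) (X Y : Subgroup G) :
    (centralizer ((cj g X : Subgroup G) : Set G)).relIndex (cj g Y) = (centralizer (X : Set G)).relIndex Y := by
  have h1 : centralizer ((cj g X : Subgroup G) : Set G) = cj g (centralizer (X : Set G)) :=
    (Cfsg.Agent.ZN.ChoiceBase.cj_centralizer g X).symm
  rw [h1]
  exact Subgroup.relIndex_map_map_of_injective _ _ (MulEquiv.injective (MulAut.conj g))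

theorem cj_cj_inv (g : G) (X : Subgroup G) : cj g (cj g⁻¹ X) = X := by rw [← cj_mul, mul_inv_cancel, cj_one]

theorem cj_inv_cj (g : G) (X : Subgroup G) : cj g⁻¹ (cj g X) = X := by rw [← cj_mul, inv_mul_cancel, cj_one]

theorem mutual_cj (g : G) {V V' : Subgroup G} (h : NatPair.Mutual V V') : NatPair.Mutual (cj g V) (cj g V') where
  le := by
    intro a ha
    rw [mem_normalizer_cj]
    exact h.le (mem_cj.1 ha)
  le' := by
    intro a ha
    rw [mem_normalizer_cj]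
    exact h.le' (mem_cj.1 ha)
  ne := by
    obtain ⟨v, hv, w, hw, hvw⟩ := h.ne
    refine ⟨g * v * g⁻¹, ?_, g * w * g⁻¹, ?_, ?_⟩
    · rw [mem_cj]
      have e1 : g⁻¹ * (g * v * g⁻¹) * g = v := by group
      rw [e1]; exact hv
    · rw [mem_cj]
      have e1 : g⁻¹ * (g * w * g⁻¹) * g = w := by group
      rw [e1]; exact hw
    · intro h3
      apply hvw
      have e1 : g * v * g⁻¹ * (g * w * g⁻¹) = g * (v * w) * g⁻¹ := by group
      have e2 : g * w * g⁻¹ * (g * v * g⁻¹) = g * (w * v) * g⁻¹ := by group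
      rw [e1, e2] at h3
      exact mul_left_cancel (mul_right_cancel h3)

theorem elem_cj (g : G) {V : Subgroup G} (h : IsElementaryAbelian 2 V) : IsElementaryAbelian 2 (cj g V) :=
  Cfsg.Agent.ZN.ChoiceBase.isElementaryAbelian_cj g h

theorem mutual_of {S P₁ P₂ : Subgroup G} {x : G} (hm : Omega.Mutual S P₁ P₂ x) :
    NatPair.Mutual (zl S P₁) (cj x (zl S P₂)) where
  le := hm.le₂
  le' := hm.le₁
  ne := by
    by_contra hcon
    push Not at hcon
    apply hm.ne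
    rw [commutator_eq_bot_iff_le_centralizer]
    intro v hv
    rw [mem_centralizer_iff]
    intro w hw
    exact (hcon v hv w hw).symm

/-- both sides of a mutual pair -/
theorem both_aux (S : Sylow 2 G) {P₁ P₂ V V₂ : Subgroup G} {x : G}
    (hS1 : (S : Subgroup G) ≤ P₁) (hS2 : (S : Subgroup G) ≤ P₂)
    (hP1 : P₁ ≤ normalizer (V : Set G)) (hP2 : P₂ ≤ normalizer (V₂ : Set G)) (hVP1 : V ≤ P₁) (hVP2 : V₂ ≤ P₂)
    (he1 : IsElementaryAbelian 2 V) (he2 : IsElementaryAbelian 2 V₂) (hmu : NatPair.Mutual V (cj x V₂))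
    {F₁ F₂ : Type} [Field F₁] [Finite F₁] [CharP F₁ 2] [Field F₂] [Finite F₂] [CharP F₂ 2]
    (N₁ : NatOver F₁ P₁ V ⊥) (N₂ : NatOver F₂ P₂ V₂ ⊥) :
    ∃ n₁ ∈ normalizer (V : Set G), ∃ w₁, w₁ ≠ 0 ∧ ∃ n₂ ∈ normalizer (V₂ : Set G), ∃ w₂, w₂ ≠ 0 ∧
      V ⊓ cj x V₂ = cj n₁ ((preMod N₁ hP1).line w₁) ∧
      V ⊓ cj x V₂ = cj x (cj n₂ ((preMod N₂ hP2).line w₂)) ∧
      centralizer ((cj x V₂ : Subgroup G) : Set G) ⊓ V = V ⊓ cj x V₂ ∧
      centralizer (V : Set G) ⊓ cj x V₂ = V ⊓ cj x V₂ ∧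
      Nat.card F₁ = Nat.card F₂ := by
  have hmu2 : NatPair.Mutual V₂ (cj x⁻¹ V) := by
    have h1 := mutual_cj x⁻¹ hmu.symm
    rwa [cj_inv_cj] at h1
  have e1 : (centralizer ((cj x⁻¹ V : Subgroup G) : Set G)).relIndex V₂ =
      (centralizer (V : Set G)).relIndex (cj x V₂) := by
    have h1 := relIndex_centralizer_cj x⁻¹ V (cj x V₂)
    rwa [cj_inv_cj] at h1
  have e2 : (centralizer (V₂ : Set G)).relIndex (cj x⁻¹ V) =
      (centralizer ((cj x V₂ : Subgroup G) : Set G)).relIndex V := by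
    have h1 := relIndex_centralizer_cj x⁻¹ (cj x V₂) V
    rwa [cj_inv_cj] at h1
  have hs1 := side S hS1 hP1 hVP1 N₁ (elem_cj x he2) hmu
  have hs2 := side S hS2 hP2 hVP2 N₂ (elem_cj x⁻¹ he1) hmu2
  rw [e1, e2] at hs2
  have htr : ∀ X, V₂ ⊓ cj x⁻¹ V = X → V ⊓ cj x V₂ = cj x X := by
    rintro _ rfl
    have h1 : cj x (V₂ ⊓ cj x⁻¹ V) = cj x V₂ ⊓ cj x (cj x⁻¹ V) :=
      Cfsg.Agent.ZN.ChoiceBase.cj_inf x _ _
    rw [h1, cj_cj_inv, inf_comm]
  have htr2 : centralizer ((cj x⁻¹ V : Subgroup G) : Set G) ⊓ V₂ = V₂ ⊓ cj x⁻¹ V →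
      centralizer (V : Set G) ⊓ cj x V₂ = V ⊓ cj x V₂ := by
    intro h
    have h1 : cj x (centralizer ((cj x⁻¹ V : Subgroup G) : Set G) ⊓ V₂) =
        cj x (centralizer ((cj x⁻¹ V : Subgroup G) : Set G)) ⊓ cj x V₂ :=
      Cfsg.Agent.ZN.ChoiceBase.cj_inf x _ _
    have h2 : cj x (centralizer ((cj x⁻¹ V : Subgroup G) : Set G)) = centralizer (V : Set G) := by
      have h3 : cj x (centralizer ((cj x⁻¹ V : Subgroup G) : Set G)) =
          centralizer ((cj x (cj x⁻¹ V) : Subgroup G) : Set G) :=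
        Cfsg.Agent.ZN.ChoiceBase.cj_centralizer x _
      rw [h3, cj_cj_inv]
    rw [← h2, ← h1, h]
    exact (htr _ rfl).symm
  rcases le_total ((centralizer ((cj x V₂ : Subgroup G) : Set G)).relIndex V)
    ((centralizer (V : Set G)).relIndex (cj x V₂)) with hle | hle
  · obtain ⟨n₁, hn₁, w₁, hw₁, h1, h2, h3, h4⟩ := hs1 hle
    obtain ⟨n₂, hn₂, w₂, hw₂, k1, k2, k3, k4⟩ := hs2 (by rw [h3, h4])
    exact ⟨n₁, hn₁, w₁, hw₁, n₂, hn₂, w₂, hw₂, h1, htr _ k1, h2, htr2 k2, by rw [← h3, k4]⟩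
  · obtain ⟨n₂, hn₂, w₂, hw₂, k1, k2, k3, k4⟩ := hs2 hle
    obtain ⟨n₁, hn₁, w₁, hw₁, h1, h2, h3, h4⟩ := hs1 (by rw [k3, k4])
    exact ⟨n₁, hn₁, w₁, hw₁, n₂, hn₂, w₂, hw₂, h1, htr _ k1, h2, htr2 k2, by rw [← h3, k4]⟩

/-- both sides of a mutual pair `V_{P₁}`, `(V_{P₂})^x` of natural modules -/
theorem both (hc : IsCharacteristicTwoType G) (S : Sylow 2 G) {P₁ P₂ : Subgroup G} {x : G}
    (hm : Omega.Mutual (S : Subgroup G) P₁ P₂ x)
    {F₁ F₂ : Type} [Field F₁] [Finite F₁] [CharP F₁ 2] [Field F₂] [Finite F₂] [CharP F₂ 2]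
    (N₁ : NatOver F₁ P₁ (zl (S : Subgroup G) P₁) ⊥) (N₂ : NatOver F₂ P₂ (zl (S : Subgroup G) P₂) ⊥) :
    ∃ n₁ ∈ normalizer (zl (S : Subgroup G) P₁ : Set G), ∃ w₁, w₁ ≠ 0 ∧
      ∃ n₂ ∈ normalizer (zl (S : Subgroup G) P₂ : Set G), ∃ w₂, w₂ ≠ 0 ∧
      zl (S : Subgroup G) P₁ ⊓ cj x (zl (S : Subgroup G) P₂) =
        cj n₁ ((preMod N₁ (le_normalizer_zl _ _)).line w₁) ∧
      zl (S : Subgroup G) P₁ ⊓ cj x (zl (S : Subgroup G) P₂) =
        cj x (cj n₂ ((preMod N₂ (le_normalizer_zl _ _)).line w₂)) ∧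
      centralizer ((cj x (zl (S : Subgroup G) P₂) : Subgroup G) : Set G) ⊓ zl (S : Subgroup G) P₁ =
        zl (S : Subgroup G) P₁ ⊓ cj x (zl (S : Subgroup G) P₂) ∧
      centralizer (zl (S : Subgroup G) P₁ : Set G) ⊓ cj x (zl (S : Subgroup G) P₂) =
        zl (S : Subgroup G) P₁ ⊓ cj x (zl (S : Subgroup G) P₂) ∧
      Nat.card F₁ = Nat.card F₂ :=
  both_aux S hm.star₁.le hm.star₂.le (le_normalizer_zl _ _) (le_normalizer_zl _ _)
    ((hm.star₁.isLoc.zl_le S hc).trans ((zc_le _).trans (Cfsg.Agent.ZN.ChoiceSit.o2_le P₁)))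
    ((hm.star₂.isLoc.zl_le S hc).trans ((zc_le _).trans (Cfsg.Agent.ZN.ChoiceSit.o2_le P₂)))
    (FFThm.elem_zl hc S hm.star₁.isLoc) (FFThm.elem_zl hc S hm.star₂.isLoc) (mutual_of hm) N₁ N₂

/-- the core of (EX1) -/
theorem four_core {S V V₂ L : Subgroup G} {x : G}
    {F₁ F₂ : Type} [Field F₁] [Finite F₁] [CharP F₁ 2] [Field F₂] [Finite F₂] [CharP F₂ 2]
    (M₁ : PreMod F₁ V) (M₂ : PreMod F₂ V₂) (E₁ : M₁.Exc S) (E₂ : M₂.Exc S)
    (hmu : NatPair.Mutual V (cj x V₂))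
    {n₁ : G} (hn₁ : n₁ ∈ normalizer (V : Set G)) {w₁ : Fin 2 → F₁} (hw₁ : w₁ ≠ 0)
    {n₂ : G} (hn₂ : n₂ ∈ normalizer (V₂ : Set G)) {w₂ : Fin 2 → F₂} (hw₂ : w₂ ≠ 0)
    (hR1 : V ⊓ cj x V₂ = cj n₁ (M₁.line w₁)) (hR2 : V ⊓ cj x V₂ = cj x (cj n₂ (M₂.line w₂)))
    (hC1 : centralizer ((cj x V₂ : Subgroup G) : Set G) ⊓ V = V ⊓ cj x V₂)
    {w : Fin 2 → F₁} (hw : w ≠ 0) (hL : L = M₁.line w) : ∃ a b : G, NatPair.Mutual (cj a L) (cj b L) := by
  obtain ⟨R, hRdef⟩ : ∃ R, R = V ⊓ cj x V₂ := ⟨_, rfl⟩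
  rw [← hRdef] at hR1 hR2 hC1
  have hVc : ∀ a ∈ V, ∀ b ∈ V, a * b = b * a := fun a ha b hb => M₁.comm ha hb
  have hV'c : ∀ a ∈ cj x V₂, ∀ b ∈ cj x V₂, a * b = b * a := by
    intro a ha b hb
    rw [mem_cj] at ha hb
    have h3 := M₂.comm ha hb
    have e1 : a * b = x * ((x⁻¹ * a * x) * (x⁻¹ * b * x)) * x⁻¹ := by group
    have e2 : b * a = x * ((x⁻¹ * b * x) * (x⁻¹ * a * x)) * x⁻¹ := by group
    rw [e1, e2, h3]
  have hsq : ∀ a ∈ V, a * a = 1 := fun a ha => M₁.sq ha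
  have hcardR : Nat.card R = 4 := by
    rw [hR1, Cfsg.Agent.ZN.ChoiceBase.card_cj, M₁.card_line hw₁, E₁.card]
  -- a vector outside `R`
  obtain ⟨v, hv, hvR⟩ : ∃ v ∈ V, v ∉ R := by
    by_contra hcon
    push Not at hcon
    have h1 : V ≤ R := hcon
    have h2 := Subgroup.card_le_of_le h1
    rw [hcardR, M₁.card_V, E₁.card] at h2
    omega
  obtain ⟨v', hv', hvv'⟩ : ∃ v' ∈ cj x V₂, v' * v ≠ v * v' := by
    by_contra hcon
    push Not at hcon
    apply hvR
    rw [← hC1]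
    exact mem_inf.2 ⟨mem_centralizer_iff.2 fun a ha => hcon a ha, hv⟩
  obtain ⟨r, hr⟩ : ∃ r, r = v' * v * v'⁻¹ * v⁻¹ := ⟨_, rfl⟩
  have hrR : r ∈ R := by rw [hr, hRdef]; exact hmu.comm_mem hv' hv
  have hr1 : r ≠ 1 := by
    intro h
    apply hvv'
    rw [hr, mul_inv_eq_one, mul_inv_eq_iff_eq_mul] at h
    exact h
  have hrV : r ∈ V := by rw [hRdef] at hrR; exact (mem_inf.1 hrR).1
  have hrV' : r ∈ cj x V₂ := by rw [hRdef] at hrR; exact (mem_inf.1 hrR).2
  have hv'R : v' ∉ R := fun h => hvv' (hVc _ (by rw [hRdef] at h; exact (mem_inf.1 h).1) _ hv)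
  -- the two four-groups
  obtain ⟨g₁, hg₁, hrg, hvg⟩ : ∃ g₁, g₁ ∈ normalizer (V : Set G) ∧ n₁⁻¹ * r * n₁ ∈ cj g₁ (M₁.line w₁) ∧
      n₁⁻¹ * v * n₁ ∈ cj g₁ (M₁.line w₁) := by
    obtain ⟨g, hg, h1, h2⟩ := E₁.fuse w₁ hw₁ (n₁⁻¹ * r * n₁) (by rw [← mem_cj, ← hR1]; exact hrR)
      (fun h => hr1 (by
        have : r = n₁ * (n₁⁻¹ * r * n₁) * n₁⁻¹ := by group
        rw [this, h]; group)) (n₁⁻¹ * v * n₁) (by
        have h1 : cj n₁ V = V := cj_eq_iff.2 hn₁
        rw [← mem_cj, h1]; exact hv) (fun h => hvR (by rw [hR1, mem_cj]; exact h))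
    exact ⟨g, hg, h1, h2⟩
  obtain ⟨g₂, hg₂, hrg', hvg'⟩ : ∃ g₂, g₂ ∈ normalizer (V₂ : Set G) ∧
      (x * n₂)⁻¹ * r * (x * n₂) ∈ cj g₂ (M₂.line w₂) ∧ (x * n₂)⁻¹ * v' * (x * n₂) ∈ cj g₂ (M₂.line w₂) := by
    have hR2' : R = cj (x * n₂) (M₂.line w₂) := by rw [hR2, cj_mul]
    obtain ⟨g, hg, h1, h2⟩ := E₂.fuse w₂ hw₂ ((x * n₂)⁻¹ * r * (x * n₂)) (by rw [← mem_cj, ← hR2']; exact hrR)
      (fun h => hr1 (by
        have : r = (x * n₂) * ((x * n₂)⁻¹ * r * (x * n₂)) * (x * n₂)⁻¹ := by group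
        rw [this, h]; group)) ((x * n₂)⁻¹ * v' * (x * n₂)) (by
        have h1 : cj n₂ V₂ = V₂ := cj_eq_iff.2 hn₂
        rw [← mem_cj, cj_mul, h1]; exact hv') (fun h => hv'R (by rw [hR2', mem_cj]; exact h))
    exact ⟨g, hg, h1, h2⟩
  obtain ⟨U, hU⟩ : ∃ U, U = cj (n₁ * g₁) (M₁.line w₁) := ⟨_, rfl⟩
  obtain ⟨U', hU'⟩ : ∃ U', U' = cj (x * n₂ * g₂) (M₂.line w₂) := ⟨_, rfl⟩
  have hrU : r ∈ U := by rw [hU, cj_mul, mem_cj]; exact hrg
  have hvU : v ∈ U := by rw [hU, cj_mul, mem_cj]; exact hvg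
  have hrU' : r ∈ U' := by rw [hU', cj_mul, mem_cj]; exact hrg'
  have hvU' : v' ∈ U' := by rw [hU', cj_mul, mem_cj]; exact hvg'
  have hcU : Nat.card U = 4 := by rw [hU, Cfsg.Agent.ZN.ChoiceBase.card_cj, M₁.card_line hw₁, E₁.card]
  have hcU' : Nat.card U' = 4 := by rw [hU', Cfsg.Agent.ZN.ChoiceBase.card_cj, M₂.card_line hw₂, E₂.card]
  have hrr := hsq r hrV
  have hUcl : closure {r, v} = U := closure_pair_eq hcU hrU hvU hr1 hrr
    (fun h => hvv' (by rw [h]; group)) (fun h => hvR (by rw [h]; exact hrR))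
  have hUcl' : closure {r, v'} = U' := closure_pair_eq hcU' hrU' hvU' hr1 hrr
    (fun h => hvv' (by rw [h]; group)) (fun h => hv'R (by rw [h]; exact hrR))
  -- they normalise each other
  have hrinv : r⁻¹ = r := inv_eq_of_mul_eq_one_left hrr
  have hrv : r * v = v * r := hVc _ hrV _ hv
  have hrv' : r * v' = v' * r := hV'c _ hrV' _ hv'
  have hnorm : ∀ {s t : G} {W : Subgroup G}, closure {r, t} = W → r * s = s * r → s * t * s⁻¹ ∈ W → r ∈ W →
      s ∈ normalizer (W : Set G) := by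
    intro s t W hW hrs hst hrW
    rw [← cj_eq_iff]
    have hle : cj s W ≤ W := by
      rw [← hW, cj, MonoidHom.map_closure, closure_le]
      rintro _ ⟨y, hy, rfl⟩
      rw [hW]
      rcases hy with hy | hy
      · have : (MulAut.conj s).toMonoidHom y = y := by
          show s * y * s⁻¹ = y
          rw [hy, ← hrs]; group
        rw [this, hy]; exact hrW
      · have hy' : y = t := hy
        rw [hy']
        exact hst
    apply Subgroup.eq_of_le_of_card_ge hle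
    rw [Cfsg.Agent.ZN.ChoiceBase.card_cj]
  have e1 : v' * v * v'⁻¹ = r * v := by rw [hr]; group
  have e2 : v * v' * v⁻¹ = r * v' := by
    -- `r = r⁻¹ = v v' v⁻¹ v'⁻¹`
    have h2 : r = v * v' * v⁻¹ * v'⁻¹ := by
      rw [← hrinv, hr]; group
    rw [h2]; group
  have hn1 : U ≤ normalizer (U' : Set G) := by
    rw [← hUcl, closure_le]
    intro y hy
    rcases hy with hy | hy
    · rw [hy]
      exact hnorm hUcl' rfl (by rw [hrv', mul_inv_cancel_right]; exact hvU') hrU'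
    · have hy' : y = v := hy
      rw [hy']
      exact hnorm hUcl' hrv (by rw [e2]; exact mul_mem hrU' hvU') hrU'
  have hn2 : U' ≤ normalizer (U : Set G) := by
    rw [← hUcl', closure_le]
    intro y hy
    rcases hy with hy | hy
    · rw [hy]
      exact hnorm hUcl rfl (by rw [hrv, mul_inv_cancel_right]; exact hvU) hrU
    · have hy' : y = v' := hy
      rw [hy']
      exact hnorm hUcl hrv' (by rw [e1]; exact mul_mem hrU hvU) hrU
  -- both are conjugate to `L`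
  obtain ⟨l, hl⟩ := exists_cj_line M₁ hw hw₁
  have hUa : U = cj (n₁ * g₁ * l) L := by
    rw [hL, cj_mul, hl, hU]
  have hUb : U' = cj (x * n₂ * g₂ * (x * n₂)⁻¹ * n₁ * l) L := by
    have h1 : cj n₁ (M₁.line w₁) = cj (x * n₂) (M₂.line w₂) := by rw [← hR1, hR2, cj_mul]
    rw [hL, cj_mul, hl, cj_mul, h1, ← cj_mul, hU']
    congr 1
    group
  refine ⟨n₁ * g₁ * l, x * n₂ * g₂ * (x * n₂)⁻¹ * n₁ * l, ?_⟩
  rw [← hUa, ← hUb]
  exact ⟨hn2, hn1, v, hvU, v', hvU', fun h => hvv' h.symm⟩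

/-- **(EX1)** If both members of a mutual pair are exceptional, there is a mutual pair of four-groups of one type. -/
theorem exists_four (hG : Ctx G) (S : Sylow 2 G) {P₁ P₂ : Subgroup G} {x : G}
    (hm : Omega.Mutual (S : Subgroup G) P₁ P₂ x)
    {F₁ F₂ : Type} [Field F₁] [Finite F₁] [CharP F₁ 2] [Field F₂] [Finite F₂] [CharP F₂ 2]
    (N₁ : NatOver F₁ P₁ (zl (S : Subgroup G) P₁) ⊥) (N₂ : NatOver F₂ P₂ (zl (S : Subgroup G) P₂) ⊥)
    (E₁ : (preMod N₁ (le_normalizer_zl _ _)).Exc (S : Subgroup G))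
    (E₂ : (preMod N₂ (le_normalizer_zl _ _)).Exc (S : Subgroup G)) :
    ∃ (P' : Subgroup G) (y : G), Omega.Mutual (S : Subgroup G) P' P' y ∧
      Nat.card (zl (S : Subgroup G) P') = 4 := by
  obtain ⟨n₁, hn₁, w₁, hw₁, n₂, hn₂, w₂, hw₂, hR1, hR2, hC1, -, -⟩ := both hG.char2 S hm N₁ N₂
  obtain ⟨P', w, hP', hw, hzl⟩ := exists_par hG S (preMod N₁ (le_normalizer_zl _ _)) E₁ (zc_le_zl _ _)
  obtain ⟨a, b, h3⟩ := four_core _ _ E₁ E₂ (mutual_of hm) hn₁ hw₁ hn₂ hw₂ hR1 hR2 hC1 hw hzl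
  refine ⟨P', a⁻¹ * b, ?_, ?_⟩
  · have h4 := mutual_cj a⁻¹ h3
    rw [cj_inv_cj, ← cj_mul] at h4
    have h2 : MulAut.conj (a⁻¹ * b) • zl (S : Subgroup G) P' = cj (a⁻¹ * b) (zl (S : Subgroup G) P') := rfl
    refine ⟨hP', hP', ?_, ?_, ?_⟩
    · rw [h2]; exact h4.le'
    · rw [h2]; exact h4.le
    · rw [h2]
      intro h5
      obtain ⟨p, hp, q, hq, hpq⟩ := h4.ne
      rw [commutator_eq_bot_iff_le_centralizer] at h5
      exact hpq (mem_centralizer_iff.1 (h5 hp) q hq).symm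
  · rw [hzl, (preMod N₁ (le_normalizer_zl _ _)).card_line hw, E₁.card]

end pair

end Cfsg.Agent.Omega.II0.ExOne
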