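import Cfsg.Agent.Omega.II0.Norm
import Cfsg.Agent.Omega.FrameMulti
import Cfsg.Agent.Omega.FFBr.Final
import Cfsg.Agent.Omega.IIa2.Main

/-!
# II.0 (case FF of OMEGA): the node from the leaves

The FF theorem for minimal parabolics (`FFBr.ffthm`), `NormStep` (`II0.Norm`) and `LeafA2` from `NodeSympl`
(`IIa2.leafA2`) are plugged in.  Inputs (owners): `LeafWr`, `LeafSymWr` (helper36, 612, 242), `LeafC`
(helper629), `LeafF4` (helper816, 333, 400, 871, 904), `LeafH1` (helper337, 19), `LeafB` (helper847, 366, 139),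
`NodeSympl` (helper847, 840), `LeafA4` (helper978, 407, 988).
-/

set_option autoImplicit false

namespace Cfsg.Agent.Omega.II0.Main

open Cfsg Cfsg.Agent.Omega.Frame

universe u

/-- **`LeafMulti` from its leaves** (the FF theorem is plugged in). -/
theorem leafMulti {K : Cls.{u}} (hW : FrameMulti.LeafWr K) (hSW : FrameMulti.LeafSymWr K)
    (hC : FrameMulti.LeafC K) (hF4 : FrameMulti.LeafF4 K) : FrameFF.LeafMulti K :=
  FrameMulti.leafMulti FFBr.ffthm hW hSW hC hF4

/-- All members of mutual pairs are typed: `k` natural factors or `k` factors `S_{2^m+1}`. -/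
theorem typedStep : FrameMulti.TypedStep.{u} := FrameMulti.typedStep FFBr.ffthm

/-- The inputs of case FF. -/
structure Inputs (K : Cls.{u}) : Prop where
  /-- II.d, `k ≥ 2` natural factors -/
  wr : FrameMulti.LeafWr K
  /-- II.d, `k ≥ 2` symmetric factors -/
  symWr : FrameMulti.LeafSymWr K
  /-- II.c, F3, F5 -/
  c : FrameMulti.LeafC K
  /-- F4 -/
  f4 : FrameMulti.LeafF4 K
  /-- II.0h1 -/
  h1 : FrameFF.LeafH1 K
  /-- II.b -/
  b : FrameFF.LeafB K
  /-- II.a, `q = 2` -/
  sympl : FrameExtra.NodeSympl K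
  /-- II.a, `q ≥ 4` -/
  a4 : FrameFF.LeafA4 K

/-- **Case FF (with `AllIn S`) from its inputs.** -/
theorem nodeFF {K : Cls.{u}} (h : Inputs K) : FrameLE.NodeFF K :=
  FrameFF.nodeFF (leafMulti h.wr h.symWr h.c h.f4) h.h1 h.b (Norm.normStep K) (IIa2.leafA2 h.sympl) h.a4

/-- The leaves other than `LeafMulti` suffice when `LeafMulti` is given. -/
theorem nodeFF_of_multi {K : Cls.{u}} (hM : FrameFF.LeafMulti K) (h1 : FrameFF.LeafH1 K) (hb : FrameFF.LeafB K)
    (ha2 : FrameFF.LeafA2 K) (ha4 : FrameFF.LeafA4 K) : FrameLE.NodeFF K :=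
  FrameFF.nodeFF hM h1 hb (Norm.normStep K) ha2 ha4

end Cfsg.Agent.Omega.II0.Main
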