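import Cfsg.Agent.Omega.II0.NormStep
import Cfsg.Agent.Omega.NatPair.Norm

/-!
# II.0: `NormStep` (unconditional)

LEMMA NORM (helper989) plugged into `Omega.II0.NormStep`.
-/

set_option autoImplicit false

namespace Cfsg.Agent.Omega.II0.Norm

open Subgroup Cfsg Cfsg.Agent.ZN Cfsg.Agent.Omega.MinPar Cfsg.Agent.Omega.Frame
open Cfsg.Agent.Omega.FrameFF (NatOver)
open Cfsg.Agent.Omega.NatPair (NatMod PreMod)
open Cfsg.Agent.MinSimple.VModule (le_normalizer_zl)
open Cfsg.Agent.Omega.II0.OfOver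

universe u

theorem normLemma : NormStep.NormLemma.{u} := by
  intro G _ _ F _ _ _ V M S hSV hS
  exact M.dich S hSV hS

/-- **`NormStep`.** -/
theorem normStep (K : Cls.{u}) : FrameFF.NormStep K := NormStep.normStep normLemma K

variable {G : Type u} [Group G] [Finite G]

/-- `V_P` (one natural factor, `C_V(O²(P)) = 1`) is a natural module for `N_G(V_P)`, or exceptional. -/
theorem dich (S : Sylow 2 G) {P : Subgroup G} (hSP : (S : Subgroup G) ≤ P)
    {F : Type} [Field F] [Finite F] [CharP F 2] (N : NatOver F P (zl (S : Subgroup G) P) ⊥) :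
    Nonempty (NatMod F (zl (S : Subgroup G) P)) ∨
      (preMod N (le_normalizer_zl (S : Subgroup G) P)).Exc (S : Subgroup G) :=
  NormStep.dich normLemma S hSP N

/-- Mixed pairs. -/
theorem mixed (hG : Ctx G) (S : Sylow 2 G)
    (hsame : ∀ (P : Subgroup G) (g : G), ¬ Mutual (S : Subgroup G) P P g) {P₁ P₂ : Subgroup G} {x : G}
    (hm : Mutual (S : Subgroup G) P₁ P₂ x)
    {F₁ F₂ : Type} [Field F₁] [Finite F₁] [CharP F₁ 2] [Field F₂] [Finite F₂] [CharP F₂ 2]
    (N₁ : NatOver F₁ P₁ (zl (S : Subgroup G) P₁) ⊥) (N₂ : NatOver F₂ P₂ (zl (S : Subgroup G) P₂) ⊥) :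
    Nonempty (NatMod F₁ (zl (S : Subgroup G) P₁)) ∨ Nonempty (NatMod F₂ (zl (S : Subgroup G) P₂)) :=
  NormStep.mixed normLemma hG S hsame hm N₁ N₂

end Cfsg.Agent.Omega.II0.Norm
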