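import Cfsg.Agent.Omega.II0.ExOne

/-!
# II.0: `NormStep` from LEMMA NORM (bb OMEGA #12618)

* `NormLemma` : LEMMA NORM (helper989, `PreMod.dich`);
* `dich` : for `P ∈ P*(S)` with one natural factor and `C_V(O²(P)) = 1`, `V = V_P` is a natural module for `N_G(V)` or
  exceptional (`|V| = 16`);
* `normStep` : `FrameFF.NormStep K`;
* `mixed` : in a mutual pair, if there is no mutual pair of one type, at most one of the members is exceptional.
-/

set_option autoImplicit false

namespace Cfsg.Agent.Omega.II0.NormStep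

open Subgroup Cfsg Cfsg.Agent.ZN Cfsg.Agent.Omega.MinPar Cfsg.Agent.Omega.Frame
open Cfsg.Agent.Omega.FrameFF (NatOver Single Free AllFree MinSame cv)
open Cfsg.Agent.Omega.NatPair (NatMod PreMod ap)
open Cfsg.Agent.MinSimple.VModule (le_normalizer_zl)
open Cfsg.Agent.Omega.II0.OfOver Cfsg.Agent.Omega.II0.ExOne

universe u

/-- LEMMA NORM (#12618; `PreMod.dich`, helper989). -/
def NormLemma : Prop :=
  ∀ (G : Type u) [Group G] [Finite G] (F : Type) [Field F] [Finite F] [CharP F 2] (V : Subgroup G)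
    (M : PreMod F V) (S : Sylow 2 G), (S : Subgroup G) ≤ normalizer (V : Set G) →
    (∀ s ∈ (S : Subgroup G), M.Nm s) → (∀ g ∈ normalizer (V : Set G), M.Nm g) ∨ M.Exc (S : Subgroup G)

variable {G : Type u} [Group G] [Finite G]

/-- `V_P` is a natural module for `N_G(V_P)`, or exceptional. -/
theorem dich (hL : NormLemma.{u}) (S : Sylow 2 G) {P : Subgroup G} (hSP : (S : Subgroup G) ≤ P)
    {F : Type} [Field F] [Finite F] [CharP F 2] (N : NatOver F P (zl (S : Subgroup G) P) ⊥) :
    Nonempty (NatMod F (zl (S : Subgroup G) P)) ∨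
      (preMod N (le_normalizer_zl (S : Subgroup G) P)).Exc (S : Subgroup G) := by
  rcases hL G F _ (preMod N (le_normalizer_zl (S : Subgroup G) P)) S
    (hSP.trans (le_normalizer_zl _ _)) (fun s hs h A hA => ind_conj N _ (hSP hs) hA) with h | h
  · exact Or.inl ⟨PreMod.toNatMod _ h⟩
  · exact Or.inr h

omit [Finite G] in
/-- `NatOver` over the trivial subgroup, from `Single` and `Free`. -/
theorem exists_natOver {S P : Subgroup G} (hs : Single S P) (hf : Free S P) :
    ∃ (F : Type) (_ : Field F) (_ : Finite F) (_ : CharP F 2), Nonempty (NatOver F P (zl S P) ⊥) := by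
  obtain ⟨F, i1, i2, i3, hN⟩ := hs
  refine ⟨F, i1, i2, i3, ?_⟩
  unfold Free at hf
  rw [hf] at hN
  exact hN

/-- **`NormStep`.** -/
theorem normStep (hL : NormLemma.{u}) (K : Cls.{u}) : FrameFF.NormStep K := by
  intro G _ _ hG _ S _ _ hAF P g hMS
  obtain ⟨hs, -⟩ := hAF.1 P P g hMS.pair
  obtain ⟨hf, -⟩ := hAF.2 P P g hMS.pair
  obtain ⟨F, i1, i2, i3, ⟨N⟩⟩ := exists_natOver hs hf
  rcases dich hL S hMS.pair.star₁.le N with h | h
  · exact ⟨F, i1, i2, i3, h⟩
  · exfalso
    obtain ⟨P', y, hm, h4⟩ := exists_four hG S hMS.pair N N h h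
    have h1 := hMS.min P' y hm
    rw [h4, (preMod N (le_normalizer_zl _ _)).card_V, h.card] at h1
    omega

/-- **Mixed pairs**: if there is no mutual pair of one type, one of the members is a natural module for its
normaliser. -/
theorem mixed (hL : NormLemma.{u}) (hG : Ctx G) (S : Sylow 2 G)
    (hsame : ∀ (P : Subgroup G) (g : G), ¬ Mutual (S : Subgroup G) P P g) {P₁ P₂ : Subgroup G} {x : G}
    (hm : Mutual (S : Subgroup G) P₁ P₂ x)
    {F₁ F₂ : Type} [Field F₁] [Finite F₁] [CharP F₁ 2] [Field F₂] [Finite F₂] [CharP F₂ 2]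
    (N₁ : NatOver F₁ P₁ (zl (S : Subgroup G) P₁) ⊥) (N₂ : NatOver F₂ P₂ (zl (S : Subgroup G) P₂) ⊥) :
    Nonempty (NatMod F₁ (zl (S : Subgroup G) P₁)) ∨ Nonempty (NatMod F₂ (zl (S : Subgroup G) P₂)) := by
  rcases dich hL S hm.star₁.le N₁ with h1 | h1
  · exact Or.inl h1
  · rcases dich hL S hm.star₂.le N₂ with h2 | h2
    · exact Or.inr h2
    · exfalso
      obtain ⟨P', y, hm', -⟩ := exists_four hG S hm N₁ N₂ h1 h2
      exact hsame P' y hm'

end Cfsg.Agent.Omega.II0.NormStep
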